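/-
Transfer to the normaliser of a weakly closed subgroup (Grün, Yoshida): if `N(W)` does not control
transfer then an iterated commutator `[x, z; p - 1]` lies in a maximal subgroup `W₀` of `W` outside `Φ(W₀)`.
-/
import Cfsg.Prelude.Def_Transfer
import Cfsg.Agent.Lib.Transfer.Tate
import Cfsg.Agent.Lib.Yoshida.Core
import Mathlib.Algebra.Group.ForwardDiff

set_option autoImplicit false

namespace Cfsg.Agent.YoshidaWC

open Subgroup

universe u

variable {G : Type u} [Group G] {p : ℕ}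

theorem choose_pred_cast [hp : Fact p.Prime] :
    ∀ k : ℕ, k < p → ((p - 1).choose k : ZMod p) = (-1) ^ k
  | 0, _ => by simp
  | k + 1, hk => by
    have ih := choose_pred_cast k (by omega)
    have h1 : p.choose (k + 1) = (p - 1).choose k + (p - 1).choose (k + 1) := by
      conv_lhs => rw [show p = (p - 1) + 1 from (Nat.succ_pred_eq_of_pos hp.out.pos).symm]
      exact Nat.choose_succ_succ' _ _
    have h2 : ((p.choose (k + 1) : ℕ) : ZMod p) = 0 :=
      (ZMod.natCast_eq_zero_iff _ _).mpr (hp.out.dvd_choose_self (Nat.succ_ne_zero k) hk)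
    rw [h1, Nat.cast_add, ih] at h2
    rw [pow_succ, mul_neg_one]
    exact eq_neg_of_add_eq_zero_right h2

theorem coeff_cast [hp : Fact p.Prime] {k : ℕ} (hk : k < p) :
    (((-1 : ℤ) ^ (p - 1 - k) * (p - 1).choose k : ℤ) : ZMod p) = 1 := by
  push_cast
  rw [choose_pred_cast k hk, ← pow_add, Nat.sub_add_cancel (by omega)]
  rcases hp.out.eq_two_or_odd' with rfl | hodd
  · show (-1 : ZMod 2) ^ 1 = 1
    rw [pow_one]
    exact ZMod.neg_eq_self_mod_two 1
  · obtain ⟨m, hm⟩ := hodd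
    rw [show p - 1 = 2 * m by omega, pow_mul, neg_one_sq, one_pow]

/-- The top iterated difference is the sum over a period. -/
theorem fwdDiff_iter_pred [hp : Fact p.Prime] {A : Type*} [AddCommGroup A] (hA : ∀ a : A, p • a = 0)
    (g : ℕ → A) : (fwdDiff 1)^[p - 1] g 0 = ∑ k ∈ Finset.range p, g k := by
  rw [fwdDiff_iter_eq_sum_shift, Nat.sub_add_cancel hp.out.one_le]
  refine Finset.sum_congr rfl fun k hk => ?_
  rw [zero_add, smul_eq_mul, mul_one]
  obtain ⟨c, hc⟩ : (p : ℤ) ∣ (-1 : ℤ) ^ (p - 1 - k) * (p - 1).choose k - 1 := by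
    rw [← ZMod.intCast_eq_intCast_iff_dvd_sub, Int.cast_one]
    exact (coeff_cast (Finset.mem_range.mp hk)).symm
  rw [show (-1 : ℤ) ^ (p - 1 - k) * (p - 1).choose k = c * p + 1 by linarith, add_smul, one_smul,
    mul_smul, natCast_zsmul, hA, smul_zero, zero_add]

/-- A homomorphism into a group of order `p` kills the Frattini subgroup. -/
theorem frattini_le_ker [hp : Fact p.Prime] {H : Type*} [Group H] [Finite H] {A : Type*} [Group A]
    (hA : Nat.card A = p) (φ : H →* A) : frattini H ≤ φ.ker := by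
  haveI : Finite A := Nat.finite_of_card_ne_zero (hA ▸ hp.out.ne_zero)
  have hdvd : φ.ker.index ∣ p := by
    rw [index_ker, ← hA]
    exact card_subgroup_dvd_card φ.range
  rcases (Nat.dvd_prime hp.out).mp hdvd with h | h
  · rw [index_eq_one.mp h]; exact le_top
  · refine frattini_le_coatom ⟨fun e => by rw [e, index_top] at h; exact hp.out.one_lt.ne h,
      fun K hK => ?_⟩
    rcases (Nat.dvd_prime hp.out).mp (h ▸ index_dvd_of_le hK.le) with h1 | h1
    · exact index_eq_one.mp h1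
    · exfalso
      have h2 := relIndex_mul_index hK.le
      rw [h, h1] at h2
      exact hK.not_ge (relIndex_eq_one.mp ((mul_eq_right₀ hp.out.ne_zero).mp h2))

/-- A `p`-subgroup of `H ⊇ S` is conjugate in `H` into the Sylow subgroup `S`. -/
theorem exists_conj_into [Finite G] [Fact p.Prime] (S : Sylow p G) {H : Subgroup G}
    (hSH : (S : Subgroup G) ≤ H) {P : Subgroup G} (hPH : P ≤ H) (hP : IsPGroup p P) :
    ∃ h ∈ H, ∀ x ∈ P, h * x * h⁻¹ ∈ (S : Subgroup G) := by
  obtain ⟨T, hT⟩ := (hP.of_equiv (subgroupOfEquivOfLe hPH).symm).exists_le_sylow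
  obtain ⟨h, hh⟩ := MulAction.exists_smul_eq ↥H T (S.subtype hSH)
  refine ⟨h, h.2, fun x hx => ?_⟩
  have h1 : MulAut.conj h ⟨x, hPH hx⟩ ∈ ((h • T : Sylow p ↥H) : Subgroup ↥H) :=
    ⟨⟨x, hPH hx⟩, hT (mem_subgroupOf.mpr hx), rfl⟩
  rw [hh] at h1
  exact mem_subgroupOf.mp h1

/-- A homomorphism on `H ⊇ S` into a `p`-group trivial on `S ∩ G'` extends to `G`. -/
theorem exists_extend [Finite G] [Fact p.Prime] (P : Sylow p G) (H : Subgroup G)
    (hPH : (P : Subgroup G) ≤ H) {A : Type*} [CommGroup A] (hA : IsPGroup p A) (δ : H →* A)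
    (hδ : ∀ h : H, (h : G) ∈ (P : Subgroup G) → (h : G) ∈ commutator G → δ h = 1) :
    ∃ Δ : G →* A, ∀ h : H, Δ h = δ h := by
  let δP : (P : Subgroup G) →* A := δ.comp (inclusion hPH)
  have hker : (P : Subgroup G).focalSubgroupOf ≤ δP.ker := by
    intro x hx
    refine hδ (inclusion hPH x) x.2 ?_
    have h1 := mem_subgroupOf.mp hx
    rw [Transfer.focalSubgroup_eq_of_coprime _ (Transfer.coprime_index_relIndex_sylow P)] at h1
    exact h1.1
  let δb := QuotientGroup.lift _ δP hker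
  have hco : (Nat.card ((P : Subgroup G) ⧸ (P : Subgroup G).focalSubgroupOf)).Coprime
      (P : Subgroup G).index :=
    P.card_coprime_index.coprime_dvd_left (index_dvd_card _)
  open scoped IsMulCommutative in
  let e : ((P : Subgroup G) ⧸ (P : Subgroup G).focalSubgroupOf) ≃*
      ((P : Subgroup G) ⧸ (P : Subgroup G).focalSubgroupOf) :=
    { powCoprime hco with map_mul' := fun a b => mul_pow a b _ }
  refine ⟨(δb.comp e.symm.toMonoidHom).comp (P : Subgroup G).transferFocal, ?_⟩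
  have key : ∀ x : (P : Subgroup G),
      δb (e.symm ((P : Subgroup G).transferFocal x)) = δ (inclusion hPH x) := by
    intro x
    rw [Subgroup.transferFocal_eq_pow]
    exact congrArg δb (e.symm_apply_apply (x : _ ⧸ _))
  intro h
  obtain ⟨k, hk, u, hu, hh⟩ := mem_sup_of_normal_right.mp
    ((Transfer.sylow_sup_eq_top (P.subtype hPH)).symm ▸ mem_top h)
  have h1 : δ u = 1 := Transfer.pResidual_le_ker hA δ hu
  set F := (δb.comp e.symm.toMonoidHom).comp (P : Subgroup G).transferFocal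
  have h2 : F (u : G) = 1 := Transfer.pResidual_le_ker hA (F.comp H.subtype) hu
  have h3 : F (k : G) = δ k := key ⟨k, mem_subgroupOf.mp hk⟩
  rw [← hh, coe_mul, map_mul, map_mul, h1, h2, h3]

/-- If `S ∩ G' ≠ S ∩ H'` some homomorphism of `H` into a group of order `p` does not vanish on `S ∩ G'`. -/
theorem exists_hom [Finite G] [hp : Fact p.Prime] (P : Sylow p G) (H : Subgroup G)
    (hPH : (P : Subgroup G) ≤ H)
    (h : (P : Subgroup G) ⊓ commutator G ≠ (P : Subgroup G) ⊓ ⁅H, H⁆) :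
    ∃ (A : Type u) (_ : CommGroup A), Nat.card A = p ∧ ∃ (δ : H →* A) (u : H),
      (u : G) ∈ (P : Subgroup G) ∧ (u : G) ∈ commutator G ∧ δ u ≠ 1 := by
  by_contra hno
  push_neg at hno
  apply h
  have hidx : ¬ p ∣ H.index := fun hd => P.not_dvd_index (hd.trans (index_dvd_of_le hPH))
  have htate := Transfer.tate_of_extend H hidx (fun A _ hA δ => exists_extend P H hPH
    (IsPGroup.of_card (n := 1) (by rw [pow_one, hA])) δ (fun x hx hx' => hno A inferInstance hA δ x hx hx'))
  refine le_antisymm (le_inf inf_le_left ?_) (le_inf inf_le_left (inf_le_right.trans ?_))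
  · set K := pResidual p G with hK
    haveI : K.Normal := Transfer.pResidual_normal
    set π := QuotientGroup.mk' K
    have htop : H.map π = ⊤ := by
      have h1 : H ⊔ K = ⊤ := top_le_iff.mp
        ((Transfer.sylow_sup_eq_top P).ge.trans (sup_le_sup_right hPH _))
      rw [← map_top_of_surjective π (QuotientGroup.mk'_surjective K), map_eq_map_iff,
        QuotientGroup.ker_mk', h1, top_sup_eq]
    have hcle : commutator G ≤ ⁅H, H⁆ ⊔ K := by
      have h1 : (commutator G).map π = (⁅H, H⁆ : Subgroup G).map π := by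
        rw [_root_.commutator_def, map_commutator, map_commutator,
          map_top_of_surjective π (QuotientGroup.mk'_surjective K), htop]
      have h2 := le_comap_map π (commutator G)
      rw [h1, comap_map_eq, QuotientGroup.ker_mk'] at h2
      exact h2
    rintro x ⟨hxP, hxG⟩
    obtain ⟨c, hc, k, hk, hck⟩ := mem_sup_of_normal_right.mp (hcle hxG)
    have hcH : c ∈ H := commutator_le_self H hc
    have hkH : k ∈ H := by
      have : k = c⁻¹ * x := by rw [← hck]; group
      rw [this]; exact H.mul_mem (H.inv_mem hcH) (hPH hxP)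
    have hk' : (⟨k, hkH⟩ : ↥H) ∈ pResidual p ↥H := by
      have h1 : k ∈ (pResidual p ↥H).map H.subtype := htate ▸ ⟨hkH, hk⟩
      obtain ⟨k', hk', e⟩ := h1
      rwa [show (⟨k, hkH⟩ : ↥H) = k' from Subtype.ext e.symm]
    -- the image of `x` in the abelianisation of `H` is both a `p`-element and a `p'`-element
    obtain ⟨a, m, hm, hcard⟩ := Nat.exists_eq_pow_mul_and_not_dvd
      (Nat.card_pos (α := Abelianization ↥H)).ne' p hp.out.ne_one
    let κ : ↥H →* Abelianization ↥H := (powMonoidHom m).comp Abelianization.of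
    let A₀ : Subgroup (Abelianization ↥H) := (powMonoidHom (p ^ a) : Abelianization ↥H →* _).ker
    have hA₀ : IsPGroup p ↥A₀ := fun y => ⟨a, Subtype.ext y.2⟩
    have hκ : ∀ y, κ y ∈ A₀ := fun y => by
      show ((Abelianization.of y) ^ m) ^ p ^ a = 1
      rw [← pow_mul, mul_comm, ← hcard, pow_card_eq_one']
    have h2 := Transfer.pResidual_le_ker hA₀ (κ.codRestrict A₀ hκ) hk'
    have h3 : κ ⟨k, hkH⟩ = 1 := congrArg Subtype.val h2
    set x' : ↥H := ⟨x, hPH hxP⟩
    have hx' : x' = ⟨c, hcH⟩ * ⟨k, hkH⟩ := Subtype.ext hck.symm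
    have hofc : Abelianization.of (⟨c, hcH⟩ : ↥H) = 1 := by
      have : (⟨c, hcH⟩ : ↥H) ∈ commutator ↥H := by
        rw [← map_subtype_commutator] at hc
        obtain ⟨c', hc', e⟩ := hc
        rwa [show (⟨c, hcH⟩ : ↥H) = c' from Subtype.ext e.symm]
      rwa [← Abelianization.ker_of] at this
    have h4 : Abelianization.of x' ^ m = 1 := by
      rw [hx', map_mul, hofc, one_mul]; exact h3
    obtain ⟨e, he⟩ := P.2 ⟨x, hxP⟩
    have h5 : Abelianization.of x' ^ p ^ e = 1 := by
      rw [← map_pow, show x' ^ p ^ e = 1 from Subtype.ext (by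
        simpa using congrArg Subtype.val he), map_one]
    have h6 : Abelianization.of x' = 1 := orderOf_eq_one_iff.mp (Nat.eq_one_of_dvd_coprimes
      (((hp.out.coprime_iff_not_dvd).mpr hm).pow_left e)
      (orderOf_dvd_of_pow_eq_one h5) (orderOf_dvd_of_pow_eq_one h4))
    have h7 : x' ∈ commutator ↥H := by rwa [← Abelianization.ker_of]
    have h8 := mem_map_of_mem H.subtype h7
    rw [map_subtype_commutator] at h8
    exact h8
  · rw [_root_.commutator_def]; exact commutator_mono le_top le_top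

theorem smul_eq_mk {H : Subgroup G} (g : G) (q : G ⧸ H) : g • q = QuotientGroup.mk (g * q.out) := by
  conv_lhs => rw [← QuotientGroup.out_eq' q]
  rfl

theorem term_mem {H : Subgroup G} (g : G) (q : G ⧸ H) : (g • q).out⁻¹ * g * q.out ∈ H := by
  rw [mul_assoc, ← QuotientGroup.eq, QuotientGroup.out_eq', smul_eq_mk]

/-- The main statement. -/
theorem exists_iterated [Finite G] [hp : Fact p.Prime] (S : Sylow p G) (W : Subgroup G)
    (hW : Cfsg.IsWeaklyClosed W (S : Subgroup G))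
    (h : (S : Subgroup G) ⊓ commutator G ≠
      (S : Subgroup G) ⊓ ⁅normalizer (W : Set G), normalizer (W : Set G)⁆) :
    ∃ x ∈ (S : Subgroup G), ∃ z ∈ W, ∃ W₀ : Subgroup ↥W, IsCoatom W₀ ∧
      (fun y : G => y⁻¹ * z⁻¹ * y * z)^[p - 1] x ∈ W₀.map W.subtype ∧
      (fun y : G => y⁻¹ * z⁻¹ * y * z)^[p - 1] x ∉ ((frattini ↥W₀).map W₀.subtype).map W.subtype := by
  classical
  have hWS : W ≤ (S : Subgroup G) := hW.1
  set H := normalizer (W : Set G) with hH
  have hSH : (S : Subgroup G) ≤ H := by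
    intro s hs
    rw [hH, mem_normalizer_iff_map_conj_eq]
    refine hW.2 s ?_
    rintro _ ⟨w, hw, rfl⟩
    exact mul_mem (mul_mem hs (hWS hw)) (inv_mem hs)
  obtain ⟨A, hAg, hA, δ, u₀, hu₀S, hu₀G, hu₀⟩ := exists_hom S H hSH h
  -- minimal order
  obtain ⟨u, ⟨huS, huG, hu1⟩, humin⟩ := Set.exists_min_image
    {u : ↥H | (u : G) ∈ (S : Subgroup G) ∧ (u : G) ∈ commutator G ∧ δ u ≠ 1}
    (fun u => orderOf (u : G)) (Set.toFinite _) ⟨u₀, hu₀S, hu₀G, hu₀⟩
  have hsmall : ∀ v : ↥H, (v : G) ∈ commutator G → IsPGroup p ↥(zpowers (v : G)) →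
      orderOf (v : G) < orderOf (u : G) → δ v = 1 := by
    intro v hvG hvp hlt
    obtain ⟨n, hn, hconj⟩ := exists_conj_into S hSH (zpowers_le.mpr v.2) hvp
    by_contra hne
    set n' : ↥H := ⟨n, hn⟩
    have hord : orderOf ((n' * v * n'⁻¹ : ↥H) : G) = orderOf (v : G) :=
      orderOf_injective (MulAut.conj n).toMonoidHom (MulAut.conj n).injective (v : G)
    refine (humin (n' * v * n'⁻¹) ⟨hconj v (mem_zpowers _), ?_, ?_⟩).not_gt (hord ▸ hlt)
    · exact (inferInstance : (commutator G).Normal).conj_mem _ hvG n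
    · rwa [map_mul, map_mul, map_inv, mul_comm (δ n'), mul_inv_cancel_right]
  -- the cocycle
  let d : G → G ⧸ H → A := fun g q => δ ⟨(g • q).out⁻¹ * g * q.out, term_mem g q⟩
  have hd : ∀ a b q, d (a * b) q = d b q * d a (b • q) := by
    intro a b q
    rw [mul_comm (d b q)]
    show δ ⟨_, term_mem (a * b) q⟩ = δ ⟨_, term_mem a (b • q)⟩ * δ ⟨_, term_mem b q⟩
    rw [← map_mul]
    congr 1
    refine Subtype.ext ?_
    show ((a * b) • q).out⁻¹ * (a * b) * q.out =
      (a • b • q).out⁻¹ * a * (b • q).out * ((b • q).out⁻¹ * b * q.out)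
    rw [mul_smul]; group
  have hd1 : ∀ q, d 1 q = 1 := fun q => by
    have h2 := hd 1 1 q
    rw [one_mul, one_smul] at h2
    exact (mul_eq_left.1 h2.symm)
  have hfix : ∀ (g : G) (q : G ⧸ H), g • q = q → ∃ hm : q.out⁻¹ * g * q.out ∈ H,
      d g q = δ ⟨q.out⁻¹ * g * q.out, hm⟩ := by
    intro g q hq
    have hm := term_mem g q
    have h2 : (g • q).out⁻¹ * g * q.out = q.out⁻¹ * g * q.out := by rw [hq]
    exact ⟨h2 ▸ hm, congrArg δ (Subtype.ext h2)⟩
  -- the product over all cosets is a homomorphism on G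
  haveI : Fintype (G ⧸ H) := Fintype.ofFinite _
  let V : G →* A :=
    { toFun := fun g => ∏ q, d g q
      map_one' := by simp [hd1]
      map_mul' := fun a b => by
        simp only [hd, Finset.prod_mul_distrib]
        rw [mul_comm]
        congr 1
        exact Fintype.prod_equiv (MulAction.toPerm b) _ _ fun q => rfl }
  have hVu : ∏ q, d (u : G) q = 1 := Abelianization.commutator_subset_ker V huG
  -- the action of S
  set u' : (S : Subgroup G) := ⟨u, huS⟩
  let dS : ↥(S : Subgroup G) → G ⧸ H → A := fun s q => d (s : G) q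
  have hdS : ∀ (a b : (S : Subgroup G)) q, dS (a * b) q = dS b q * dS a (b • q) := fun a b q => hd _ _ q
  have hlow : ∀ q n, p ∣ n → (u' ^ n) • q = q → dS (u' ^ n) q = 1 := by
    intro q n hn hq
    obtain ⟨hm, hval⟩ := hfix ((u : G) ^ n) q hq
    show d ((u : G) ^ n) q = 1
    rw [hval]
    have hord : orderOf (q.out⁻¹ * (u : G) ^ n * q.out) = orderOf ((u : G) ^ n) := by
      rw [← orderOf_injective (MulAut.conj q.out⁻¹).toMonoidHom (MulAut.conj q.out⁻¹).injective
        ((u : G) ^ n)]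
      simp [MulAut.conj_apply]
    refine hsmall ⟨_, hm⟩ ?_ ?_ ?_
    · have h2 := (inferInstance : (commutator G).Normal).conj_mem _
        ((commutator G).pow_mem huG n) q.out⁻¹
      simpa using h2
    · obtain ⟨k, hk⟩ := IsPGroup.iff_orderOf.mp S.2 (u' ^ n)
      refine IsPGroup.of_card (n := k) ?_
      rw [Nat.card_zpowers, hord, ← hk, ← orderOf_coe, coe_pow]
    · show orderOf (q.out⁻¹ * (u : G) ^ n * q.out) < orderOf (u : G)
      rw [hord]
      obtain ⟨k, hk⟩ := IsPGroup.iff_orderOf.mp S.2 u'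
      rw [← orderOf_coe] at hk
      have hk0 : k ≠ 0 := fun h0 => hu1 (by
        rw [h0, pow_zero, orderOf_eq_one_iff] at hk
        rw [show u = 1 from Subtype.ext hk, map_one])
      obtain ⟨n', rfl⟩ := hn
      show orderOf ((u : G) ^ (p * n')) < orderOf ((u' : (S : Subgroup G)) : G)
      rw [hk]
      refine lt_of_le_of_lt (Nat.le_of_dvd (pow_pos hp.out.pos _) (orderOf_dvd_of_pow_eq_one
        (n := p ^ (k - 1)) ?_)) (Nat.pow_lt_pow_right hp.out.one_lt (by omega))
      rw [← pow_mul, mul_comm p n', mul_assoc, ← pow_succ', Nat.sub_add_cancel (by omega),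
        mul_comm, pow_mul, ← hk, show ((u' : (S : Subgroup G)) : G) = (u : G) from rfl,
        pow_orderOf_eq_one, one_pow]
  have hmoved : ∀ P : Finset (G ⧸ H), (∀ q ∈ P, u' • q ∈ P) →
      ∏ q ∈ P, d (u : G) q = ∏ q ∈ P.filter (fun q => u' • q = q), d (u : G) q := by
    intro P hP
    rw [← Finset.prod_filter_mul_prod_filter_not P (fun q => u' • q = q), mul_eq_left]
    refine Yoshida.prod_eq_one_of_moved S.2 dS hdS u' hlow _ ?_ ?_
    · intro q hq
      rw [Finset.mem_filter] at hq ⊢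
      exact ⟨hP q hq.1, fun h2 => hq.2 (MulAction.injective u' h2)⟩
    · intro q hq
      exact (Finset.mem_filter.mp hq).2
  -- the coset H itself
  set q₁ : G ⧸ H := QuotientGroup.mk 1
  have hq₁out : q₁.out ∈ H := by
    have := QuotientGroup.eq.mp (QuotientGroup.out_eq' q₁).symm
    simpa using this
  have hsq : ∀ s ∈ H, s • q₁ = q₁ := fun s hs => by
    show QuotientGroup.mk (s * 1) = QuotientGroup.mk 1
    rw [QuotientGroup.eq]; simpa using H.inv_mem hs
  have hdq₁ : d (u : G) q₁ = δ u := by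
    obtain ⟨hm, hval⟩ := hfix (u : G) q₁ (hsq _ u.2)
    rw [hval, show (⟨q₁.out⁻¹ * u * q₁.out, hm⟩ : ↥H) = (⟨q₁.out, hq₁out⟩ : ↥H)⁻¹ * u * ⟨q₁.out, hq₁out⟩
      from rfl, map_mul, map_mul, map_inv, mul_comm (δ _)⁻¹, inv_mul_cancel_right]
  set W' : Subgroup (S : Subgroup G) := W.subgroupOf (S : Subgroup G) with hW'
  haveI hW'n : W'.Normal := normal_subgroupOf_of_le_normalizer hSH
  have hWmove : ∀ q : G ⧸ H, (∀ w ∈ W', w • q = q) → q = q₁ := by
    intro q hq
    set g := q.out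
    have hP : ∀ w ∈ W, g⁻¹ * w * g ∈ H := by
      intro w hw
      have h1 : (w : G) • q = q := hq ⟨w, hWS hw⟩ (mem_subgroupOf.mpr hw)
      exact (hfix w q h1).1
    obtain ⟨n, hn, hconj⟩ := exists_conj_into S hSH (P := W.map (MulAut.conj g⁻¹).toMonoidHom)
      (by rintro _ ⟨w, hw, rfl⟩; simpa using hP w hw) ((S.2.to_le hWS).map _)
    have h1 : W.map (MulAut.conj (n * g⁻¹)).toMonoidHom = W := hW.2 _ (by
      rintro _ ⟨w, hw, rfl⟩
      have := hconj (g⁻¹ * w * g) ⟨w, hw, by simp⟩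
      simpa [mul_assoc] using this)
    have h2 : n * g⁻¹ ∈ H := mem_normalizer_iff_map_conj_eq.mpr h1
    have hg : g ∈ H := by
      have := H.mul_mem (H.inv_mem hn) h2
      rw [inv_mul_cancel_left] at this
      simpa using H.inv_mem this
    rw [← QuotientGroup.out_eq' q, QuotientGroup.eq]
    simpa using H.inv_mem hg
  -- fixed points other than H
  set Fix := (Finset.univ.filter fun q => u' • q = q).erase q₁ with hFix
  have hprodFix : ∏ q ∈ Fix, d (u : G) q ≠ 1 := by
    intro h0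
    have h1 := hmoved Finset.univ (fun q _ => Finset.mem_univ _)
    have hmem : q₁ ∈ Finset.univ.filter (fun q => u' • q = q) :=
      Finset.mem_filter.mpr ⟨Finset.mem_univ q₁, hsq _ u.2⟩
    rw [hVu, ← Finset.mul_prod_erase _ _ hmem,
      ← hFix, h0, mul_one, hdq₁] at h1
    exact hu1 h1.symm
  obtain ⟨O, hO, hOprod⟩ : ∃ O ∈ Fix.image (fun q => MulAction.orbit W' q),
      ∏ q ∈ Fix.filter (fun q => MulAction.orbit W' q = O), d (u : G) q ≠ 1 := by
    by_contra hall
    push_neg at hall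
    apply hprodFix
    rw [← Finset.prod_fiberwise_of_maps_to (g := fun q => MulAction.orbit W' q)
      (fun q hq => Finset.mem_image_of_mem _ hq)]
    exact Finset.prod_eq_one hall
  obtain ⟨q₀, hq₀, rfl⟩ := Finset.mem_image.mp hO
  obtain ⟨hq₀ne, hq₀fix⟩ : q₀ ≠ q₁ ∧ u' • q₀ = q₀ := by
    simpa [hFix] using hq₀
  set R₀ := MulAction.stabilizer (S : Subgroup G) q₀
  set S₁ : Subgroup (S : Subgroup G) := W' ⊔ zpowers u' with hS₁
  have horb : ∀ s ∈ S₁, s • q₀ ∈ MulAction.orbit W' q₀ := by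
    intro s hs
    obtain ⟨w, hw, r, hr, rfl⟩ := mem_sup_of_normal_left.mp hs
    refine ⟨⟨w, hw⟩, ?_⟩
    have h1 : r • q₀ = q₀ := (zpowers_le.mpr (show u' ∈ R₀ from hq₀fix)) hr
    show w • q₀ = (w * r) • q₀
    rw [mul_smul, h1]
  have hRlt : S₁ ⊓ R₀ < S₁ := by
    refine lt_of_le_not_ge inf_le_left fun hle => hq₀ne (hWmove q₀ fun w hw => ?_)
    exact (hle (mem_sup_left hw)).2
  obtain ⟨M, ⟨hRM, hMS⟩, hMmax⟩ := Set.Finite.exists_maximal
    (s := {K : Subgroup (S : Subgroup G) | S₁ ⊓ R₀ ≤ K ∧ K < S₁}) (Set.toFinite _) ⟨_, le_rfl, hRlt⟩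
  have huR : u' ∈ S₁ ⊓ R₀ := ⟨mem_sup_right (mem_zpowers _), hq₀fix⟩
  have huM : u' ∈ M := hRM huR
  have hco : IsCoatom (M.subgroupOf S₁) := by
    refine ⟨fun e => hMS.not_ge (subgroupOf_eq_top.mp e), fun K hK => ?_⟩
    have hMK : M < K.map S₁.subtype := by
      rw [← map_subgroupOf_eq_of_le hMS.le]
      exact (map_lt_map_iff_of_injective (subtype_injective S₁)).mpr hK
    by_contra hne
    have hlt : K.map S₁.subtype < S₁ := lt_of_le_of_ne (map_subtype_le K) fun e => hne (by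
      apply map_injective (subtype_injective S₁)
      rw [e, ← MonoidHom.range_eq_map, range_subtype])
    exact hMK.not_ge (hMmax ⟨hRM.trans hMK.le, hlt⟩ hMK.le)
  haveI hS₁nil : Group.IsNilpotent ↥S₁ := (S.2.to_subgroup S₁).isNilpotent
  have hMn : (M.subgroupOf S₁).Normal :=
    Group.normalizerCondition_of_isNilpotent.normal_of_coatom _ hco
  have hMnor : ∀ g ∈ S₁, ∀ m ∈ M, g * m * g⁻¹ ∈ M := fun g hg m hm =>
    mem_subgroupOf.mp (hMn.conj_mem ⟨m, hMS.le hm⟩ (mem_subgroupOf.mpr hm) ⟨g, hg⟩)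
  -- the element z
  obtain ⟨z, hzW, hzM, hzp⟩ : ∃ z ∈ W', z ∉ M ∧ z ^ p ∈ M := by
    obtain ⟨w, hw, hwM⟩ := SetLike.not_le_iff_exists.mp fun hle : W' ≤ M =>
      hMS.not_ge (sup_le hle (zpowers_le.mpr huM))
    have hex : ∃ j, w ^ p ^ j ∈ M := by
      obtain ⟨k, hk⟩ := S.2 w
      exact ⟨k, by rw [hk]; exact M.one_mem⟩
    set j := Nat.find hex with hj
    have hj0 : j ≠ 0 := fun h0 => hwM (by
      have := Nat.find_spec hex
      rwa [← hj, h0, pow_zero, pow_one] at this)
    refine ⟨w ^ p ^ (j - 1), W'.pow_mem hw _, Nat.find_min hex (by omega), ?_⟩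
    rw [← pow_mul, ← pow_succ, Nat.sub_add_cancel (by omega)]
    exact Nat.find_spec hex
  have hzS : z ∈ S₁ := mem_sup_left hzW
  have hzpow : ∀ i : ℕ, z ^ i ∈ M → p ∣ i := by
    intro i hi
    by_contra hnd
    exact hzM (Transfer.mem_of_pow_mem_of_coprime (hp.out.coprime_iff_not_dvd.mpr hnd) hzp hi)
  have hgen : ∀ s ∈ S₁, ∃ i < p, ∃ m ∈ M, s = z ^ i * m := by
    intro s hs
    set L : Subgroup ↥S₁ := M.subgroupOf S₁ ⊔ zpowers ⟨z, hzS⟩
    have hL : L = ⊤ := hco.2 _ (left_lt_sup.mpr fun h2 =>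
      hzM (mem_subgroupOf.mp (h2 (mem_zpowers (⟨z, hzS⟩ : ↥S₁)))))
    obtain ⟨a, ha, m, hm, he⟩ := mem_sup_of_normal_right.mp (show (⟨s, hs⟩ : ↥S₁) ∈
      zpowers (⟨z, hzS⟩ : ↥S₁) ⊔ M.subgroupOf S₁ by rw [sup_comm]; show _ ∈ L; rw [hL]; exact mem_top _)
    obtain ⟨j, hj⟩ := mem_zpowers_iff.mp ha
    refine ⟨(j % p).toNat, ?_, (z ^ p) ^ (j / p) * m.1, M.mul_mem (M.zpow_mem hzp _) (mem_subgroupOf.mp hm), ?_⟩
    · have h1 := Int.emod_lt_of_pos j (by exact_mod_cast hp.out.pos : (0 : ℤ) < p)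
      have h2 := Int.emod_nonneg j (by exact_mod_cast hp.out.ne_zero : (p : ℤ) ≠ 0)
      omega
    · have h2 : s = z ^ j * m.1 := by
        rw [← show ((a * m : ↥S₁) : (S : Subgroup G)) = s from congrArg Subtype.val he,
          coe_mul, ← hj, coe_zpow]
      rw [h2, ← mul_assoc, ← zpow_natCast z p, ← _root_.zpow_mul, ← zpow_natCast,
        Int.toNat_of_nonneg (Int.emod_nonneg j (by exact_mod_cast hp.out.ne_zero)),
        ← _root_.zpow_add, Int.emod_add_mul_ediv]
  -- the block and the homomorphism θ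
  set B := Finset.univ.filter (fun b : G ⧸ H => ∃ m ∈ M, m • q₀ = b) with hB
  have hBinv : ∀ m ∈ M, ∀ b ∈ B, m • b ∈ B := by
    intro m hm b hb
    obtain ⟨-, m', hm', rfl⟩ := Finset.mem_filter.mp hb
    exact Finset.mem_filter.mpr ⟨Finset.mem_univ _, m * m', M.mul_mem hm hm', mul_smul _ _ _⟩
  have hBperm : ∀ m ∈ M, ∀ f : G ⧸ H → A, ∏ b ∈ B, f (m • b) = ∏ b ∈ B, f b := fun m hm f =>
    Finset.prod_nbij' (m • ·) (m⁻¹ • ·) (fun b hb => hBinv m hm b hb)
      (fun b hb => hBinv _ (M.inv_mem hm) b hb) (fun b _ => inv_smul_smul m b)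
      (fun b _ => smul_inv_smul m b) (fun b _ => rfl)
  let θ : ↥M →* A :=
    { toFun := fun v => ∏ b ∈ B, dS v b
      map_one' := Finset.prod_eq_one fun b _ => hd1 b
      map_mul' := fun a b => by
        simp only [coe_mul, hdS, Finset.prod_mul_distrib]
        rw [hBperm _ b.2 (fun c => dS a c), mul_comm] }
  let c : ↥(S : Subgroup G) → ↥(S : Subgroup G) := fun y => z⁻¹ * y * z
  have hcM : ∀ y ∈ M, c y ∈ M := fun y hy => by
    simpa using hMnor z⁻¹ (S₁.inv_mem hzS) y hy
  have hciter : ∀ (i : ℕ) y, c^[i] y = (z ^ i)⁻¹ * y * z ^ i := by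
    intro i
    induction i with
    | zero => simp
    | succ i ih =>
      intro y
      rw [Function.iterate_succ_apply', ih, pow_succ, mul_inv_rev]
      show z⁻¹ * ((z ^ i)⁻¹ * y * z ^ i) * z = _
      group
  -- the product over the orbit of q₀
  set P := (Finset.range p ×ˢ B).image (fun x => (z ^ x.1) • x.2) with hP
  have hinj : Set.InjOn (fun x : ℕ × (G ⧸ H) => (z ^ x.1) • x.2)
      ↑(Finset.range p ×ˢ B) := by
    have haux : ∀ i j, i ≤ j → j < p → ∀ b ∈ B, ∀ b' ∈ B, (z ^ i) • b = (z ^ j) • b' → i = j := by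
      intro i j hij hjp b hb b' hb' he
      obtain ⟨-, m, hm, rfl⟩ := Finset.mem_filter.mp hb
      obtain ⟨-, m', hm', rfl⟩ := Finset.mem_filter.mp hb'
      obtain ⟨l, rfl⟩ := Nat.exists_eq_add_of_le hij
      rw [pow_add, mul_smul] at he
      have h1 : (m⁻¹ * z ^ l * m') • q₀ = q₀ := by
        rw [mul_smul, mul_smul, ← MulAction.injective (z ^ i) he, inv_smul_smul]
      have h2 : m⁻¹ * z ^ l * m' ∈ M := hRM
        ⟨S₁.mul_mem (S₁.mul_mem (S₁.inv_mem (hMS.le hm)) (S₁.pow_mem hzS l)) (hMS.le hm'), h1⟩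
      have h3 : z ^ l ∈ M := by
        have := M.mul_mem (M.mul_mem hm h2) (M.inv_mem hm')
        simpa [mul_assoc] using this
      have h4 := hzpow l h3
      rcases Nat.eq_zero_or_pos l with hl | hl
      · omega
      · have := Nat.le_of_dvd hl h4
        omega
    rintro ⟨i, b⟩ hx ⟨j, b'⟩ hy he
    simp only [Finset.coe_product, Set.mem_prod, Finset.mem_coe, Finset.mem_range] at hx hy he
    have hij : i = j := by
      rcases le_total i j with hle | hle
      · exact haux i j hle hy.1 b hx.2 b' hy.2 he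
      · exact (haux j i hle hx.1 b' hy.2 b hx.2 he.symm).symm
    subst hij
    exact Prod.ext rfl (MulAction.injective (z ^ i) he)
  have hPmem : ∀ q, q ∈ P ↔ q ∈ MulAction.orbit W' q₀ := by
    intro q
    constructor
    · intro hq
      obtain ⟨⟨i, b⟩, hib, rfl⟩ := Finset.mem_image.mp hq
      obtain ⟨-, m, hm, rfl⟩ := Finset.mem_filter.mp (Finset.mem_product.mp hib).2
      rw [← mul_smul]
      exact horb _ (S₁.mul_mem (S₁.pow_mem hzS i) (hMS.le hm))
    · rintro ⟨⟨w, hw⟩, rfl⟩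
      obtain ⟨i, hi, m, hm, e⟩ := hgen w (mem_sup_left hw)
      refine Finset.mem_image.mpr ⟨(i, m • q₀), Finset.mem_product.mpr ⟨Finset.mem_range.mpr hi,
        Finset.mem_filter.mpr ⟨Finset.mem_univ _, m, hm, rfl⟩⟩, ?_⟩
      show z ^ i • m • q₀ = w • q₀
      rw [← mul_smul, ← e]
  have hblock : ∀ (i : ℕ) (v : ↥M), ∏ b ∈ B, dS v (z ^ i • b) =
      ∏ b ∈ B, dS (c^[i] v) b := by
    intro i v
    have hv' : c^[i] (v : (S : Subgroup G)) ∈ M :=
      (Set.MapsTo.iterate (fun y hy => hcM y hy) i) v.2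
    have h1 : ∀ b, dS (z ^ i) b * dS v (z ^ i • b) =
        dS (c^[i] v) b * dS (z ^ i) (c^[i] (v : (S : Subgroup G)) • b) := by
      intro b
      rw [← hdS, ← hdS, hciter, show z ^ i * ((z ^ i)⁻¹ * (v : (S : Subgroup G)) * z ^ i) =
        (v : (S : Subgroup G)) * z ^ i by group]
    have h2 := Finset.prod_congr (rfl : B = B) (fun b _ => h1 b)
    rw [Finset.prod_mul_distrib, Finset.prod_mul_distrib, hBperm _ hv' (fun b => dS (z ^ i) b),
      mul_comm] at h2
    exact mul_right_cancel h2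
  have hsum : ∏ i ∈ Finset.range p, θ ⟨c^[i] u', (Set.MapsTo.iterate (fun y hy => hcM y hy) i) huM⟩ ≠ 1 := by
    have hPu : ∀ q ∈ P, u' • q ∈ P := by
      intro q hq
      obtain ⟨w, rfl⟩ := (hPmem q).mp hq
      refine (hPmem _).mpr ?_
      show u' • (w : (S : Subgroup G)) • q₀ ∈ _
      rw [← mul_smul]
      exact horb _ (S₁.mul_mem (mem_sup_right (mem_zpowers _)) (mem_sup_left w.2))
    have hfil : P.filter (fun q => u' • q = q) =
        Fix.filter (fun q => MulAction.orbit W' q = MulAction.orbit W' q₀) := by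
      ext q
      rw [Finset.mem_filter, Finset.mem_filter, hPmem, hFix, Finset.mem_erase, Finset.mem_filter,
        MulAction.orbit_eq_iff]
      constructor
      · rintro ⟨hq, hqu⟩
        refine ⟨⟨fun e => ?_, Finset.mem_univ _, hqu⟩, hq⟩
        apply hq₀ne
        obtain ⟨w, hw⟩ := hq
        rw [e] at hw
        exact MulAction.injective (w : (S : Subgroup G))
          (hw.trans (hsq _ (hSH (w : (S : Subgroup G)).2)).symm)
      · rintro ⟨⟨-, -, hqu⟩, hq⟩
        exact ⟨hq, hqu⟩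
    have h1 := hmoved P hPu
    rw [hfil] at h1
    rw [← h1, hP, Finset.prod_image hinj, Finset.prod_product] at hOprod
    intro h0
    apply hOprod
    rw [← h0]
    exact Finset.prod_congr rfl fun i _ => hblock i ⟨u', huM⟩
  -- the iterated commutator
  let f : ↥(S : Subgroup G) → ↥(S : Subgroup G) := fun y => y⁻¹ * z⁻¹ * y * z
  have hfM : ∀ y ∈ M, f y ∈ M := fun y hy => by
    show y⁻¹ * z⁻¹ * y * z ∈ M
    have := M.mul_mem (M.inv_mem hy) (hcM y hy)
    simpa [c, mul_assoc] using this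
  have hiter : ∀ (k : ℕ) (y : (S : Subgroup G)) (hy : y ∈ M),
      Additive.ofMul (θ ⟨f^[k] y, (Set.MapsTo.iterate (fun y hy => hfM y hy) k) hy⟩) =
      (fwdDiff 1)^[k] (fun i => Additive.ofMul
        (θ ⟨c^[i] y, (Set.MapsTo.iterate (fun y hy => hcM y hy) i) hy⟩)) 0 := by
    intro k
    induction k with
    | zero => intro y hy; rfl
    | succ k ih =>
      intro y hy
      have hfy := ih (f y) (hfM y hy)
      rw [Function.iterate_succ_apply (fwdDiff (M := ℕ) (G := Additive A) (1 : ℕ)) k]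
      refine Eq.trans ?_ (hfy.trans (congrFun (congrArg _ (funext fun i => ?_)) 0))
      · rfl
      · show _ = Additive.ofMul _ - Additive.ofMul _
        rw [← ofMul_div]
        congr 1
        rw [eq_div_iff_mul_eq', mul_comm, ← map_mul]
        congr 1
        refine Subtype.ext ?_
        show c^[i] y * c^[i] (f y) = c^[i + 1] y
        rw [hciter, hciter, hciter, pow_succ']
        show (z ^ i)⁻¹ * y * z ^ i * ((z ^ i)⁻¹ * (y⁻¹ * z⁻¹ * y * z) * z ^ i) = _
        group
  have hfin := hiter (p - 1) u' huM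
  rw [fwdDiff_iter_pred (fun a => by
    rw [← hA, ← ofMul_toMul a, ← ofMul_pow, pow_card_eq_one', ofMul_one]), ← ofMul_prod] at hfin
  have hθ : θ ⟨f^[p - 1] u', (Set.MapsTo.iterate (fun y hy => hfM y hy) (p - 1)) huM⟩ ≠ 1 := by
    rw [Additive.ofMul.injective hfin]
    exact hsum
  -- back to G
  have hval : ∀ k, (fun y : G => y⁻¹ * (z : G)⁻¹ * y * (z : G))^[k] (u : G) =
      ((f^[k] u' : ↥(S : Subgroup G)) : G) := by
    intro k
    induction k with
    | zero => rfl
    | succ k ih =>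
      rw [Function.iterate_succ_apply', Function.iterate_succ_apply', ih]
      rfl
  have hfW : f^[p - 1] u' ∈ W' := by
    obtain ⟨k, hk⟩ := Nat.exists_eq_succ_of_ne_zero (show p - 1 ≠ 0 by have := hp.out.two_le; omega)
    rw [hk]
    suffices hW1 : ∀ k, f^[k + 1] u' ∈ W' from hW1 k
    intro k
    induction k with
    | zero =>
      show u'⁻¹ * z⁻¹ * u' * z ∈ W'
      have := W'.mul_mem (hW'n.conj_mem _ (W'.inv_mem hzW) u'⁻¹) hzW
      simpa using this
    | succ k ih =>
      rw [Function.iterate_succ_apply']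
      show (f^[k + 1] u')⁻¹ * z⁻¹ * f^[k + 1] u' * z ∈ W'
      exact W'.mul_mem (W'.mul_mem (W'.mul_mem (W'.inv_mem ih) (W'.inv_mem hzW)) ih) hzW
  set W₀ : Subgroup ↥W := M.comap (inclusion hWS) with hW₀
  refine ⟨u, huS, z, mem_subgroupOf.mp hzW, W₀, ⟨fun e => hzM ?_, fun K hK => ?_⟩, ?_, ?_⟩
  · exact mem_comap.mp (e ▸ mem_top (⟨(z : G), mem_subgroupOf.mp hzW⟩ : ↥W))
  · rw [eq_top_iff]
    obtain ⟨w, hwK, hw⟩ := SetLike.exists_of_lt hK
    intro v _
    have hzK : (⟨(z : G), mem_subgroupOf.mp hzW⟩ : ↥W) ∈ K := by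
      obtain ⟨i, hi, m, hm, e⟩ := hgen (inclusion hWS w) (mem_sup_left (mem_subgroupOf.mpr w.2))
      set zw : ↥W := ⟨(z : G), mem_subgroupOf.mp hzW⟩
      have hmW₀ : (zw ^ i)⁻¹ * w ∈ W₀ := by
        show inclusion hWS ((zw ^ i)⁻¹ * w) ∈ M
        rw [map_mul, map_inv, map_pow, show inclusion hWS zw = z from rfl, e, inv_mul_cancel_left]
        exact hm
      have hi0 : ¬ p ∣ i := fun hd => by
        rcases Nat.eq_zero_or_pos i with h0 | h0
        · apply hw
          show inclusion hWS w ∈ M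
          rw [e, h0, pow_zero, one_mul]; exact hm
        · exact absurd (Nat.le_of_dvd h0 hd) (by omega)
      have h1 : zw ^ i ∈ K := by
        have := K.mul_mem hwK (K.inv_mem (hK.le hmW₀))
        simpa using this
      exact Transfer.mem_of_pow_mem_of_coprime (hp.out.coprime_iff_not_dvd.mpr hi0)
        (hK.le (show inclusion hWS (zw ^ p) ∈ M by rw [map_pow]; exact hzp)) h1
    obtain ⟨i, -, m, hm, e⟩ := hgen (inclusion hWS v) (mem_sup_left (mem_subgroupOf.mpr v.2))
    set zw : ↥W := ⟨(z : G), mem_subgroupOf.mp hzW⟩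
    have hmW₀ : (zw ^ i)⁻¹ * v ∈ W₀ := by
      show inclusion hWS ((zw ^ i)⁻¹ * v) ∈ M
      rw [map_mul, map_inv, map_pow, show inclusion hWS zw = z from rfl, e, inv_mul_cancel_left]
      exact hm
    have := K.mul_mem (K.pow_mem hzK i) (hK.le hmW₀)
    simpa using this
  · rw [hval]
    refine ⟨⟨_, mem_subgroupOf.mp hfW⟩, ?_, rfl⟩
    show inclusion hWS _ ∈ M
    exact (Set.MapsTo.iterate (fun y hy => hfM y hy) (p - 1)) huM
  · rw [hval]
    rintro ⟨y, hy, hye⟩
    obtain ⟨y₀, hy₀, rfl⟩ := hy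
    let ι : ↥W₀ →* ↥M :=
      { toFun := fun x => ⟨inclusion hWS (x : ↥W), x.2⟩
        map_one' := Subtype.ext (map_one _)
        map_mul' := fun _ _ => Subtype.ext (map_mul _ _ _) }
    apply hθ
    have h1 : θ (ι y₀) = 1 := frattini_le_ker hA (θ.comp ι) hy₀
    rw [← h1]
    congr 1
    exact Subtype.ext (Subtype.ext hye.symm)

end Cfsg.Agent.YoshidaWC
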